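import Cfsg.Agent.H473.EP.Twelve
import Cfsg.Agent.S5863
import Cfsg.Agent.S5866

/-!
# S3499, residual rows S5863 and S5866 (helper473): the lists supplied
-/

set_option autoImplicit false

namespace Cfsg.Agent.H473.EP

theorem l5863 : L5863 := fun H h1 h2 => Cfsg.Agent.S5863.result H h1 h2

theorem l5866 : L5866 := fun q hF H h1 h2 => Cfsg.Agent.S5866.result q hF H h1 h2

end Cfsg.Agent.H473.EP
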