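import Cfsg.Agent.H419.EP.Soc

/-!
# S3499, residual rows (helper473): the crude bound

* `exists_gens` : a subgroup `M ≤ A` is generated by `Ω(|A|)` elements;
* `card_le_of_ept` : `|Q| ≤ |A| ^ (2 k + 1)`, `k ≥ Ω(|A|)`;
* `card_le_of_soc` : the same with `|Aut L|` in place of `|A|` if `A` has socle `L`;
* `Model.card_le` : `|S| ≤ (|F| - 1) |Q|`.
-/

set_option autoImplicit false
set_option linter.unusedSectionVars false

namespace Cfsg.Agent.H473.EP

open Subgroup Cfsg.Agent.H284 Cfsg.Agent.H419.EP ArithmeticFunction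
open scoped MatrixGroups

/-- over a subgroup `H`, a finite group is generated by `Ω(|G : H|)` elements -/
theorem exists_gens_sup {G : Type*} [Group G] [Finite G] (k : ℕ) : ∀ H : Subgroup G, cardFactors H.index ≤ k →
    ∃ f : Fin k → G, H ⊔ closure (Set.range f) = ⊤ := by
  induction k with
  | zero =>
    intro H hH
    refine ⟨Fin.elim0, ?_⟩
    have h1 : H.index = 1 := by
      rcases cardFactors_eq_zero_iff_eq_zero_or_one.1 (Nat.le_zero.1 hH) with h | h
      · exact absurd h index_ne_zero_of_finite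
      · exact h
    rw [index_eq_one.1 h1, top_sup_eq]
  | succ k ih =>
    intro H hH
    by_cases hT : H = ⊤
    · exact ⟨fun _ => 1, by rw [hT, top_sup_eq]⟩
    · obtain ⟨g, hg⟩ : ∃ g, g ∉ H := by
        by_contra hcon
        push Not at hcon
        exact hT ((eq_top_iff' H).2 hcon)
      have hgH' : g ∈ H ⊔ zpowers g := mem_sup_right (mem_zpowers g)
      have h1 : H.relIndex (H ⊔ zpowers g) * (H ⊔ zpowers g).index = H.index := relIndex_mul_index le_sup_left
      have h2 : H.relIndex (H ⊔ zpowers g) ≠ 1 := fun h => hg (relIndex_eq_one.1 h hgH')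
      have h0 : H.relIndex (H ⊔ zpowers g) ≠ 0 := by
        intro h
        rw [h, zero_mul] at h1
        exact index_ne_zero_of_finite h1.symm
      have h3 : 1 ≤ cardFactors (H.relIndex (H ⊔ zpowers g)) :=
        cardFactors_pos_iff_one_lt.2 (by omega)
      have h4 : cardFactors (H ⊔ zpowers g).index ≤ k := by
        rw [← h1, cardFactors_mul h0 index_ne_zero_of_finite] at hH
        omega
      obtain ⟨f, hf⟩ := ih _ h4
      refine ⟨Fin.cons g f, ?_⟩
      rw [eq_top_iff, ← hf]
      refine sup_le (sup_le le_sup_left ?_) ?_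
      · refine le_sup_of_le_right ?_
        rw [zpowers_le]
        exact subset_closure ⟨0, rfl⟩
      · refine le_sup_of_le_right (closure_mono ?_)
        rintro _ ⟨i, rfl⟩
        exact ⟨i.succ, by simp⟩

theorem cardFactors_le_of_dvd {a b : ℕ} (hb : b ≠ 0) (h : a ∣ b) : cardFactors a ≤ cardFactors b := by
  obtain ⟨c, rfl⟩ := h
  rw [mul_ne_zero_iff] at hb
  rw [cardFactors_mul hb.1 hb.2]
  omega

/-- a subgroup of `A` is generated by `Ω(|A|)` elements -/
theorem exists_gens {Q : Type*} [Group Q] [Finite Q] {A M : Subgroup Q} (hM : M ≤ A) {k : ℕ}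
    (hk : cardFactors (Nat.card A) ≤ k) : ∃ f : Fin k → A, M = closure (Set.range fun i => (f i : Q)) := by
  have h1 : cardFactors (⊥ : Subgroup M).index ≤ k := by
    rw [index_bot]
    exact (cardFactors_le_of_dvd Nat.card_pos.ne' (card_dvd_of_le hM)).trans hk
  obtain ⟨f, hf⟩ := exists_gens_sup k (⊥ : Subgroup M) h1
  rw [bot_sup_eq] at hf
  refine ⟨fun i => ⟨f i, hM (f i).2⟩, ?_⟩
  have h2 := congrArg (Subgroup.map M.subtype) hf
  rw [MonoidHom.map_closure, ← MonoidHom.range_eq_map, range_subtype, ← Set.range_comp] at h2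
  exact h2.symm

/-- the number of subgroups of `A` -/
theorem ncard_le {Q : Type*} [Group Q] [Finite Q] {A : Subgroup Q} {k : ℕ} (hk : cardFactors (Nat.card A) ≤ k)
    {R : Set (Subgroup Q)} (hR : ∀ M ∈ R, M ≤ A) : R.ncard ≤ Nat.card A ^ k := by
  have h1 : R ⊆ (fun f : Fin k → A => closure (Set.range fun i => (f i : Q))) '' Set.univ := by
    intro M hM
    obtain ⟨f, hf⟩ := exists_gens (hR M hM) hk
    exact ⟨f, Set.mem_univ _, hf.symm⟩
  refine (Set.ncard_le_ncard h1 (Set.toFinite _)).trans ((Set.ncard_image_le (Set.toFinite _)).trans ?_)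
  rw [Set.ncard_univ, Nat.card_fun, Nat.card_eq_fintype_card (α := Fin k), Fintype.card_fin]

section ept

variable {Q : Type*} [Group Q] [Finite Q] {A : Subgroup Q} {Γ : Subgroup (MulAut Q)}

theorem card_le_of_ept (h : EPT A Γ) {k N : ℕ} (hk : cardFactors (Nat.card A) ≤ k) (hN : Nat.card A ≤ N) :
    Nat.card Q ≤ N ^ (2 * k + 1) := by
  have h1 : A.index ≤ (Nat.card A ^ k) ^ 2 := by
    refine h.index_le.trans (Nat.pow_le_pow_left (ncard_le hk ?_) 2)
    rintro M ⟨x, _, rfl⟩
    exact inf_le_left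
  rw [← A.card_mul_index]
  calc Nat.card A * A.index ≤ Nat.card A * (Nat.card A ^ k) ^ 2 := Nat.mul_le_mul_left _ h1
    _ = Nat.card A ^ (2 * k + 1) := by ring
    _ ≤ _ := Nat.pow_le_pow_left hN _

theorem card_dvd_aut {L : Type*} [Group L] [Finite L] (hL : HasSoc A L) : Nat.card A ∣ Nat.card (MulAut L) := by
  obtain ⟨f, hf⟩ := hL.exists_hom
  exact Subgroup.card_dvd_of_injective f hf

/-- the crude bound in terms of `|Aut L|` -/
theorem card_le_of_soc (h : EPT A Γ) {L : Type*} [Group L] [Finite L] (hL : HasSoc A L) {k N : ℕ}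
    (hN : Nat.card (MulAut L) = N) (hk : cardFactors N ≤ k) : Nat.card Q ≤ N ^ (2 * k + 1) := by
  have h1 := card_dvd_aut hL
  rw [hN] at h1
  have hN0 : N ≠ 0 := by
    have : Finite (MulAut L) := Finite.of_injective (fun f : MulAut L => (f : L → L)) DFunLike.coe_injective
    rw [← hN]
    exact Nat.card_pos.ne'
  exact card_le_of_ept h ((cardFactors_le_of_dvd hN0 h1).trans hk) (Nat.le_of_dvd (Nat.pos_of_ne_zero hN0) h1)

end ept

/-- `|S| ≤ (|F| - 1) |Q|` -/
theorem model_card_le {Q : Type*} [Group Q] [Finite Q] {ι : Type} [Fintype ι] [DecidableEq ι] {F : Type*} [Field F]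
    [Fintype F] {S : Subgroup (GL ι F)} (m : Model Q S) : Nat.card S ≤ (Fintype.card F - 1) * Nat.card Q := by
  have h1 : Nat.card S = Nat.card m.π.ker * Nat.card Q := by
    rw [← m.π.ker.card_mul_index, Subgroup.index_ker, MonoidHom.range_eq_top.2 m.surj]
    congr 1
    exact Nat.card_congr Subgroup.topEquiv.toEquiv
  rw [h1]
  refine Nat.mul_le_mul_right _ ?_
  have h2 : ∀ s : m.π.ker, ∃ c : Fˣ, ((s : S) : GL ι F).val = (c : F) • (1 : Matrix ι ι F) := fun s =>
    (Cfsg.Geo.mem_scalars_iff _).1 ((m.ker s).1 s.2)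
  choose c hc using h2
  have h3 : Function.Injective c := by
    intro s t hst
    apply Subtype.ext
    apply Subtype.ext
    apply Units.ext
    rw [hc s, hc t, hst]
  have h4 := Nat.card_le_card_of_injective c h3
  rw [Nat.card_units, Nat.card_eq_fintype_card (α := F)] at h4
  exact h4

end Cfsg.Agent.H473.EP
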